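import Groth.Agent.Lib.SecDeg26.Locus
import Groth.Agent.Lib.FGAInt26.Numerical
import Groth.Agent.Lib.Euler.AmpleCurve
import Groth.Agent.Lib.OX.LocFreeTensor
import Groth.Prelude.Def_Pic13

/-!
A nonzero non-invertible section of an invertible module has positive degree.
-/

universe u

open CategoryTheory CategoryTheory.Limits AlgebraicGeometry TopologicalSpace

set_option backward.isDefEq.respectTransparency false
set_option linter.all false
set_option maxHeartbeats 400000

noncomputable section

namespace GrothLib.SecDeg26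

open GrothLib.Euler (tF)
open GrothLib.Snapper (IsTop DimLT phi mixed)
open GrothLib.Cube (Pic clsMod)
open GrothLib.FGAInt26 (ev del)

variable (k : Type u) [Field k] {X : Scheme.{u}} [X.Over (Spec (CommRingCat.of k))]
  [IsProper (X ↘ Spec (CommRingCat.of k))] [IsIntegral X] {L : X.Modules}

include k in
theorem exists_notMem_genLocus (hL : PicF.IsInvertible L) {s : Coh.structureModule X ⟶ L} (hne : ¬ IsIso s) :
    ∃ x : X, x ∉ CohB1.genLocus L s ∧ IsClosed ({x} : Set X) := by
  haveI := Euler.isNoetherian_of_proper (X := X) k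
  have h : ((CohB1.genLocus L s : Set X)ᶜ).Nonempty := by
    by_contra h
    rw [Set.not_nonempty_iff_eq_empty, Set.compl_empty_iff] at h
    refine hne ((OX.isIso_iff s).2 fun x => (ConcreteCategory.isIso_iff_bijective _).2 ?_)
    exact Snapper.stalk_bijective_of_mem_genLocus s (show x ∈ (CohB1.genLocus L s : Set X) by rw [h]; trivial)
  exact (CohB1.genLocus L s).2.isClosed_compl.exists_closed_singleton h

/-- A section which vanishes somewhere but not everywhere has positive degree on some curve. -/
theorem exists_curveDeg_pos (hL : PicF.IsInvertible L) {s : Coh.structureModule X ⟶ L} (hs : s ≠ 0)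
    (hne : ¬ IsIso s) :
    ∃ (Y : Scheme.{u}) (i : Y ⟶ X) (_ : IsClosedImmersion i), IsIntegral Y ∧ topologicalKrullDim Y = 1 ∧
      0 < Pic13.curveDeg k (i ≫ (X ↘ Spec (CommRingCat.of k))) ((Scheme.Modules.pullback i).obj L) := by
  obtain ⟨x, hx, hxc⟩ := exists_notMem_genLocus k hL hne
  obtain ⟨y, hy, hyx, hyU⟩ := exists_curve k hL hs hx hxc
  let I := Scheme.IdealSheafData.vanishingIdeal (⟨closure ({y} : Set X), isClosed_closure⟩ : Closeds X)
  let Y := I.subscheme
  let i : Y ⟶ X := I.subschemeι
  letI : Y.Over (Spec (CommRingCat.of k)) := ⟨i ≫ X ↘ Spec (CommRingCat.of k)⟩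
  haveI : IsProper (Y ↘ Spec (CommRingCat.of k)) := inferInstanceAs (IsProper (i ≫ X ↘ Spec (CommRingCat.of k)))
  haveI : IsIntegral Y := Snapper.isIntegral_pt y
  have hdim : topologicalKrullDim Y = 1 := by
    refine (IsHomeomorph.topologicalKrullDim_eq _ i.isClosedEmbedding.isEmbedding.toHomeomorph.isHomeomorph).trans ?_
    rw [Snapper.range_pt]
    exact hy
  refine ⟨Y, i, inferInstance, inferInstance, hdim, ?_⟩
  have hLY : PicF.IsInvertible ((Scheme.Modules.pullback i).obj L) := Ample.isInvertible_pullback i hL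
  obtain ⟨e⟩ := Ample.nonempty_pullback_structureModule i
  let t : Coh.structureModule Y ⟶ (Scheme.Modules.pullback i).obj L := e.inv ≫ (Scheme.Modules.pullback i).map s
  have ht : CohB1.genLocus _ t = i ⁻¹ᵁ CohB1.genLocus L s := Ample.genLocus_pullback i L hL s e.symm
  have hmem : ∀ z : X, z ∈ closure ({y} : Set X) → ∃ w : Y, i w = z := fun z hz => by
    have : z ∈ Set.range i := by rw [Snapper.range_pt]; exact hz
    exact this
  obtain ⟨wy, hwy⟩ := hmem y (subset_closure rfl)
  obtain ⟨wx, hwx⟩ := hmem x (specializes_iff_mem_closure.1 hyx)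
  have ht0 : t ≠ 0 := fun h0 => by
    have hm : wy ∈ CohB1.genLocus _ t := by rw [ht]; show i wy ∈ CohB1.genLocus L s; rw [hwy]; exact hyU
    have hb := Snapper.stalk_bijective_of_mem_genLocus t hm
    haveI : Nontrivial ((Coh.structureModule Y).presheaf.stalk wy) :=
      (HomSh.unitStalk (X := Y) wy).symm.toEquiv.nontrivial
    obtain ⟨v, hv⟩ := exists_ne (0 : (Coh.structureModule Y).presheaf.stalk wy)
    refine hv (hb.1 ?_)
    clear hm ht hb
    clear_value t
    subst h0
    obtain ⟨U, hU, a, rfl⟩ := TopCat.Presheaf.exists_germ_eq (Coh.structureModule Y).presheaf v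
    rw [QCoh.stalkLin_germ, map_zero]
    exact map_zero _
  have htne : ¬ IsIso t := fun hiso => by
    have hm : wx ∈ CohB1.genLocus _ t := Snapper.le_genLocus t ⊤ (fun w _ =>
      @Snapper.stalk_bijective_of_isIso_restrict Y _ _ t ⊤ inferInstance w trivial) trivial
    rw [ht] at hm
    have hm' : i wx ∈ CohB1.genLocus L s := hm
    rw [hwx] at hm'
    exact hx hm'
  obtain ⟨-, hiso⟩ := Euler.deg_of_section k hdim.le hLY ht0
  have hd : 0 < Curv2.deg k Y ((Scheme.Modules.pullback i).obj L) 1 := not_le.1 fun h => htne (hiso h)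
  show 0 < FGA.eulerCharLE k Y _ 1 - FGA.eulerCharLE k Y _ 1
  rw [FGAInt26.eulerCharLE_eq k (d := 1) hdim.le, FGAInt26.eulerCharLE_eq k (d := 1) hdim.le]
  simpa [Curv2.deg] using hd

/-- The degree of an invertible module with a section vanishing somewhere, against an ample class. -/
theorem del_pos (hL : PicF.IsInvertible L) {s : Coh.structureModule X ⟶ L} (hs : s ≠ 0) (hne : ¬ IsIso s)
    {r : ℕ} (hd : topologicalKrullDim X = ((r + 1 : ℕ) : WithBot ℕ∞)) {H : X.Modules} (hH : CohB1.IsAmple H) :
    0 < del (ev k (Coh.structureModule X))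
      (Fin.cons (clsMod hL)⁻¹ (fun _ : Fin r => (clsMod hH.1)⁻¹) : Fin (r + 1) → Pic X) := by
  haveI := Euler.isNoetherian_of_proper (X := X) k
  have hO : Coh.IsCoh (Coh.structureModule X) := Euler.isCoh_of_isInvertible Euler.isInvertible_structure
  obtain ⟨x, hx, -⟩ := exists_notMem_genLocus k hL hne
  obtain ⟨z, hz, -, hzU⟩ := exists_divisor_point k hL hs hd hx
  haveI := Euler.mono_of_ne_zero Euler.isInvertible_structure hL hs
  have hQ : Coh.IsCoh (cokernel s) := QCoh.isCoh_cokernel s hO (Euler.isCoh_of_isInvertible hL)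
  let S : ShortComplex X.Modules := ShortComplex.mk s (cokernel.π s) (cokernel.condition s)
  have hS : S.ShortExact :=
    haveI : Mono S.f := ‹Mono s›
    haveI : Epi S.g := inferInstanceAs (Epi (cokernel.π s))
    { exact := ShortComplex.exact_of_g_is_cokernel _ (cokernelIsCokernel _) }
  have hcompl := genLocus_eq k hL hs
  have htop := Kleiman.isTop_genericPoint hd
  have hQd : DimLT (CohB1.support (cokernel s)) (r + 1) := by
    refine (Snapper.dimLT_of_notMem htop.dimLT (T := (CohB1.genLocus L s : Set X)ᶜ) ?_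
      fun h => h (genericPoint_mem_genLocus k hL hs)).mono fun w hw => ?_
    · rw [show closure ({genericPoint X} : Set X) = Set.univ from (genericPoint_spec X).def]
      exact Set.subset_univ _
    · rw [hcompl, compl_compl]
      exact hw
  have hzQ : z ∈ CohB1.support (cokernel s) := by
    by_contra h
    exact hzU (show z ∈ (CohB1.genLocus L s : Set X) by rw [hcompl]; exact h)
  have hpos := FGAInt26.multiPos (k := k) r X (fun _ => H) (fun _ => hH) (cokernel s) hQ hQd ⟨z, hzQ, hz⟩
  rw [FGAInt26.mixed_eq_del k (cokernel s) (fun _ => hH.1)] at hpos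
  have hinv := FGAInt26.del_inv k hQ hQd (fun _ : Fin r => clsMod hH.1)
  have hp : 0 < del (ev k (cokernel s)) (fun _ : Fin r => (clsMod hH.1)⁻¹) := by
    have : (0 : ℚ) < (del (ev k (cokernel s)) (fun _ : Fin r => (clsMod hH.1)⁻¹) : ℚ) := by
      rw [hinv]; push_cast; exact hpos
    exact_mod_cast this
  have hadd := FGAInt26.ev_add_del k hS hO (Euler.isCoh_of_isInvertible hL) hQ
    (fun _ : Fin r => (clsMod hH.1)⁻¹)
  have hLev : ev k L = fun w => ev k (Coh.structureModule X) (clsMod hL * w) := funext fun w => by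
    rw [← FGAInt26.ev_tw]
    refine FGAInt26.ev_iso k ?_ w
    exact (Snapper.tw_iso (F := Coh.structureModule X) (Cube.hasCls_clsMod hL)).some.trans
      (OX.tensorUnitLeftIso L) |>.symm
  simp only [S] at hadd
  rw [hLev] at hadd
  have hd1 : DimLT (CohB1.support (Coh.structureModule X)) (r + 1 + 1) :=
    (Kleiman.dimLT_univ hd.le).mono fun _ _ => trivial
  have hm := FGAInt26.del_mul k hO hd1 (clsMod hL) (clsMod hL)⁻¹ (fun _ : Fin r => (clsMod hH.1)⁻¹)
  rw [mul_inv_cancel, FGAInt26.del_cons _ (1 : Pic X), FGAInt26.del_cons _ (clsMod hL)] at hm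
  simp only [one_mul, sub_self] at hm
  omega

end GrothLib.SecDeg26
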