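import Groth.Agent.Lib.SecDeg26.Algebra
import Groth.Agent.Lib.DimCut.Basic
import Groth.Agent.Lib.Equidim6.RelDim
import Groth.Agent.Lib.Snapper.Positive
import Groth.Agent.Lib.Kleiman.Proper
import Groth.Agent.Lib.Ample.GenLocusPull
import Groth.Agent.Lib.Ample.Calculus
import Groth.Agent.Lib.Ample.Criterion

/-!
The zero locus of a nonzero section of an invertible module on a proper variety.
-/

universe u

open CategoryTheory CategoryTheory.Limits AlgebraicGeometry TopologicalSpace

set_option backward.isDefEq.respectTransparency false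
set_option linter.all false
set_option maxHeartbeats 400000

noncomputable section

namespace GrothLib.SecDeg26

open GrothLib.QCoh (stalkLin)
open GrothLib.Snapper (IsTop)
open GrothLib.AffDom (ptDim)

variable (k : Type u) [Field k] {X : Scheme.{u}} [X.Over (Spec (CommRingCat.of k))]
  [IsProper (X ↘ Spec (CommRingCat.of k))] [IsIntegral X] {L : X.Modules}

include k in
/-- The locus where a nonzero section generates is the complement of the support of its cokernel. -/
theorem genLocus_eq (hL : PicF.IsInvertible L) {s : Coh.structureModule X ⟶ L} (hs : s ≠ 0) :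
    (CohB1.genLocus L s : Set X) = (CohB1.support (cokernel s))ᶜ := by
  haveI := Euler.isNoetherian_of_proper (X := X) k
  have hO : Coh.IsCoh (Coh.structureModule X) := Euler.isCoh_of_isInvertible Euler.isInvertible_structure
  have hQ : Coh.IsCoh (cokernel s) := QCoh.isCoh_cokernel s hO (Euler.isCoh_of_isInvertible hL)
  haveI := Euler.mono_of_ne_zero Euler.isInvertible_structure hL hs
  let S : ShortComplex X.Modules := ShortComplex.mk s (cokernel.π s) (cokernel.condition s)
  have hS : S.ShortExact :=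
    haveI : Mono S.f := ‹Mono s›
    haveI : Epi S.g := inferInstanceAs (Epi (cokernel.π s))
    { exact := ShortComplex.exact_of_g_is_cokernel _ (cokernelIsCokernel _) }
  refine subset_antisymm
    (fun x hx => QCoh.notMem_support_cokernel_of_surjective s (Snapper.stalk_bijective_of_mem_genLocus s hx).2) ?_
  let U : X.Opens := ⟨(CohB1.support (cokernel s))ᶜ, (QCoh.isClosed_support_of_isCoh hQ).isOpen_compl⟩
  refine Snapper.le_genLocus s U fun x hx => ⟨QCoh.stalkLin_injective s x, fun v => ?_⟩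
  haveI : Subsingleton ((cokernel s).presheaf.stalk x) := QCoh.stalk_subsingleton_of_notMem hx
  have he := (ShortComplex.ShortExact.moduleCat_exact_iff_function_exact _).1 ((OX.shortExact_iff S).1 hS x).exact
  exact (he v).1 (Subsingleton.elim (α := (cokernel s).presheaf.stalk x) _ _)

include k in
theorem genericPoint_mem_genLocus (hL : PicF.IsInvertible L) {s : Coh.structureModule X ⟶ L} (hs : s ≠ 0) :
    genericPoint X ∈ CohB1.genLocus L s := by
  show genericPoint X ∈ (CohB1.genLocus L s : Set X)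
  rw [genLocus_eq k hL hs]
  exact QCoh.notMem_support_cokernel_of_surjective s
    (Euler.stalkLin_genericPoint_bijective Euler.isInvertible_structure hL hs).2

theorem exists_local_equation (hL : PicF.IsInvertible L) (s : Coh.structureModule X ⟶ L) (x : X) :
    ∃ (V : X.Opens) (hV : IsAffineOpen V) (f : Γ(X, V)), x ∈ V ∧
      hV.fromSpec ⁻¹' ((CohB1.genLocus L s : Set X))ᶜ = PrimeSpectrum.zeroLocus {f} := by
  obtain ⟨c, ⟨e⟩⟩ := Ample.exists_cocycle hL
  obtain ⟨a, ha⟩ := c.exists_hom_eq (s ≫ e.hom)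
  have hgl : CohB1.genLocus L s = c.locus a := by
    rw [← c.genLocus_hom a, ha, Ample.genLocus_comp_iso e s]
  obtain ⟨i, V, hxV, hVD, hV⟩ := c.exists_affine_le_D x
  refine ⟨V, hV, Ample.res (le_inf le_top hVD) (a.1 i), hxV, ?_⟩
  have h := congrArg (fun W : X.Opens => hV.fromSpec ⁻¹ᵁ W) (c.locus_inf_eq_basicOpen a hVD)
  simp only [hV.fromSpec_preimage_basicOpen] at h
  rw [hgl]
  ext p
  have hp : hV.fromSpec p ∈ V := hV.range_fromSpec.le ⟨p, rfl⟩
  have h2 := SetLike.ext_iff.1 h p
  simp only [Scheme.Hom.mem_preimage, Opens.mem_inf, hp, and_true] at h2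
  simp only [Set.mem_preimage, Set.mem_compl_iff, SetLike.mem_coe, h2]
  exact not_not.trans Set.singleton_subset_iff.symm

include k in
/-- Through a point outside the generating locus there is a curve meeting the generating locus. -/
theorem exists_curve (hL : PicF.IsInvertible L) {s : Coh.structureModule X ⟶ L} (hs : s ≠ 0) {x : X}
    (hx : x ∉ CohB1.genLocus L s) (hxc : IsClosed ({x} : Set X)) :
    ∃ y : X, IsTop 1 y ∧ y ⤳ x ∧ y ∈ CohB1.genLocus L s := by
  haveI := Euler.isNoetherian_of_proper (X := X) k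
  obtain ⟨V, hV, f, hxV, hpre⟩ := exists_local_equation hL s x
  obtain ⟨m, rfl⟩ := hV.range_fromSpec.ge hxV
  obtain ⟨e, he⟩ := hV.range_fromSpec.ge ((genericPoint_specializes (hV.fromSpec m)).mem_open V.2 hxV)
  have hmem : ∀ q, hV.fromSpec q ∉ CohB1.genLocus L s ↔ f ∈ q.asIdeal := fun q => by
    exact (Set.ext_iff.1 hpre q).trans Set.singleton_subset_iff
  have hfm := (hmem m).1 hx
  have hfe : f ∉ e.asIdeal := fun h => (hmem e).2 h (he ▸ genericPoint_mem_genLocus k hL hs)
  have hem : e.asIdeal ≤ m.asIdeal := (PrimeSpectrum.le_iff_specializes e m).2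
    (hV.fromSpec.isEmbedding.isInducing.specializes_iff.1 (he ▸ genericPoint_specializes _))
  haveI : IsNoetherianRing Γ(X, V) := IsLocallyNoetherian.component_noetherian ⟨V, hV⟩
  obtain ⟨p, hp, hpm, hfp, hcov⟩ := exists_prime_covBy m.asIdeal hfm e.2 hem hfe
  let P : PrimeSpectrum Γ(X, V) := ⟨p, hp⟩
  have hPx : hV.fromSpec P ⤳ hV.fromSpec m :=
    ((PrimeSpectrum.le_iff_specializes P m).1 hpm).map hV.fromSpec.continuous
  have hPU : hV.fromSpec P ∈ CohB1.genLocus L s := not_not.1 fun h => hfp ((hmem P).1 h)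
  refine ⟨hV.fromSpec P, ?_, hPx, hPU⟩
  have hle : ptDim (hV.fromSpec P) ≤ 1 := by
    have := DimCut.ptDim_le_add_length (X ↘ Spec (CommRingCat.of k)) hV [f] ((CohB1.genLocus L s : Set X))ᶜ
      (by rw [hpre, Ideal.ofList_singleton, PrimeSpectrum.zeroLocus_span]) hxV hx hPx (fun w hw hPw hwx => ?_)
    · rwa [Kleiman.ptDim_eq_zero_of_isClosed hxc, zero_add] at this
    obtain ⟨q, rfl⟩ := hV.range_fromSpec.ge (hwx.mem_open V.2 hxV)
    have h1 : p ≤ q.asIdeal := (PrimeSpectrum.le_iff_specializes P q).2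
      (hV.fromSpec.isEmbedding.isInducing.specializes_iff.1 hPw)
    have h2 : q.asIdeal ≤ m.asIdeal := (PrimeSpectrum.le_iff_specializes q m).2
      (hV.fromSpec.isEmbedding.isInducing.specializes_iff.1 hwx)
    rcases hcov _ q.2 h1 h2 with h | h
    · exact absurd (h ▸ (hmem q).1 hw) hfp
    · rw [PrimeSpectrum.ext h]
  have hlt := Equidim6.ptDim_lt_of_specializes (X ↘ Spec (CommRingCat.of k)) hPx (fun h => hx (h ▸ hPU))
  rw [Kleiman.ptDim_eq_zero_of_isClosed hxc] at hlt
  refine le_antisymm hle ?_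
  show ((1 : ℕ) : WithBot ℕ∞) ≤ ptDim (hV.fromSpec P)
  revert hlt
  generalize ptDim (hV.fromSpec P) = a
  intro hlt
  induction a with
  | bot => exact absurd hlt not_lt_bot
  | coe a => exact WithBot.coe_le_coe.2 (Order.one_le_iff_pos.2 (WithBot.coe_lt_coe.1 hlt))

include k in
/-- Outside the generating locus there is a point of codimension one above any given one. -/
theorem exists_divisor_point (hL : PicF.IsInvertible L) {s : Coh.structureModule X ⟶ L} (hs : s ≠ 0) {d : ℕ}
    (hd : topologicalKrullDim X = ((d + 1 : ℕ) : WithBot ℕ∞)) {x : X} (hx : x ∉ CohB1.genLocus L s) :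
    ∃ z : X, IsTop d z ∧ z ⤳ x ∧ z ∉ CohB1.genLocus L s := by
  haveI := Euler.isNoetherian_of_proper (X := X) k
  obtain ⟨V, hV, f, hxV, hpre⟩ := exists_local_equation hL s x
  obtain ⟨m, rfl⟩ := hV.range_fromSpec.ge hxV
  have hmem : ∀ q, hV.fromSpec q ∉ CohB1.genLocus L s ↔ f ∈ q.asIdeal := fun q => by
    exact (Set.ext_iff.1 hpre q).trans Set.singleton_subset_iff
  obtain ⟨q, hq, hqm⟩ := Ideal.exists_minimalPrimes_le
    ((Ideal.span_singleton_le_iff_mem _).2 ((hmem m).1 hx) : Ideal.span {f} ≤ m.asIdeal)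
  let Q : PrimeSpectrum Γ(X, V) := ⟨q, hq.1.1⟩
  have hQV : hV.fromSpec Q ∈ V := hV.range_fromSpec.le ⟨Q, rfl⟩
  have hQ : hV.fromSpec Q ∉ CohB1.genLocus L s := (hmem Q).2 (hq.1.2 (Ideal.mem_span_singleton_self f))
  refine ⟨hV.fromSpec Q, ?_, ((PrimeSpectrum.le_iff_specializes Q m).1 hqm).map hV.fromSpec.continuous, hQ⟩
  have hge : ptDim (genericPoint X) ≤ ptDim (hV.fromSpec Q) + 1 := by
    refine DimCut.ptDim_le_add_length (X ↘ Spec (CommRingCat.of k)) hV [f] ((CohB1.genLocus L s : Set X))ᶜ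
      (by rw [hpre, Ideal.ofList_singleton, PrimeSpectrum.zeroLocus_span]) hQV hQ
      (genericPoint_specializes _) fun w hw _ hwQ => ?_
    obtain ⟨r, rfl⟩ := hV.range_fromSpec.ge (hwQ.mem_open V.2 hQV)
    have h2 : r.asIdeal ≤ q := (PrimeSpectrum.le_iff_specializes r Q).2
      (hV.fromSpec.isEmbedding.isInducing.specializes_iff.1 hwQ)
    have h3 := hq.2 ⟨r.2, (Ideal.span_singleton_le_iff_mem _).2 ((hmem r).1 hw)⟩ h2
    rw [show r = Q from PrimeSpectrum.ext (le_antisymm h2 h3)]
  have hlt := Equidim6.ptDim_lt_of_specializes (X ↘ Spec (CommRingCat.of k))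
    (genericPoint_specializes (hV.fromSpec Q)) (fun h => hQ (h ▸ genericPoint_mem_genLocus k hL hs))
  have hη : ptDim (genericPoint X) = ((d + 1 : ℕ) : WithBot ℕ∞) := Kleiman.isTop_genericPoint hd
  rw [hη] at hge hlt
  show ptDim (hV.fromSpec Q) = ((d : ℕ) : WithBot ℕ∞)
  revert hge hlt
  generalize ptDim (hV.fromSpec Q) = a
  intro hge hlt
  induction a with
  | bot => simp at hge
  | coe a =>
    induction a with
    | top => exact absurd hlt not_top_lt
    | coe n =>
      have h1 : (n : WithBot ℕ∞) < ((d + 1 : ℕ) : WithBot ℕ∞) := hlt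
      have h2 : ((d + 1 : ℕ) : WithBot ℕ∞) ≤ ((n + 1 : ℕ) : WithBot ℕ∞) := by push_cast; exact hge
      rw [Nat.cast_lt] at h1
      rw [Nat.cast_le] at h2
      exact congrArg Nat.cast (show n = d by omega)

end GrothLib.SecDeg26
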