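import Mathlib

/-!
A prime just below a given prime avoiding a given element.
-/

universe u

namespace GrothLib.SecDeg26

variable {A : Type u} [CommRing A] [IsNoetherianRing A]

/-- There is a prime avoiding `f` with nothing strictly between it and `m`. -/
theorem exists_prime_covBy (m : Ideal A) [m.IsPrime] {f : A} (hf : f ∈ m) {p₀ : Ideal A} (hp₀ : p₀.IsPrime)
    (h₀ : p₀ ≤ m) (hf₀ : f ∉ p₀) :
    ∃ p : Ideal A, p.IsPrime ∧ p ≤ m ∧ f ∉ p ∧ ∀ q : Ideal A, q.IsPrime → p ≤ q → q ≤ m → q = p ∨ q = m := by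
  classical
  obtain ⟨p, ⟨hp, hpm, hfp⟩, hmax⟩ : ∃ p : Ideal A, (p.IsPrime ∧ p ≤ m ∧ f ∉ p) ∧
      ∀ q : Ideal A, (q.IsPrime ∧ q ≤ m ∧ f ∉ q) → ¬ p < q := set_has_maximal_iff_noetherian.2
    (inferInstance : IsNoetherian A A) {p : Ideal A | p.IsPrime ∧ p ≤ m ∧ f ∉ p} ⟨p₀, hp₀, h₀, hf₀⟩
  refine ⟨p, hp, hpm, hfp, fun q hq hpq hqm => ?_⟩
  by_contra hcon
  push Not at hcon
  obtain ⟨hqp, hne⟩ := hcon
  have hfq : f ∈ q := by
    by_contra h
    exact hmax q ⟨hq, hqm, h⟩ (lt_of_le_of_ne hpq (Ne.symm hqp))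
  let I := p ⊔ Ideal.span {f}
  have hSfin : I.minimalPrimes.Finite := Ideal.finite_minimalPrimes_of_isNoetherianRing A I
  have hIq : I ≤ q := sup_le hpq ((Ideal.span_singleton_le_iff_mem _).2 hfq)
  have hnot : ∀ s ∈ I.minimalPrimes, ¬ m ≤ s := fun s hs hms =>
    hne (le_antisymm hqm (hms.trans (hs.2 ⟨hq, hIq⟩ (hqm.trans hms))))
  have hsel : ¬ (m : Set A) ⊆ ⋃ s ∈ (↑(insert p hSfin.toFinset) : Set (Ideal A)), (s : Set A) := by
    intro h
    obtain ⟨s, hs, hms⟩ := (Ideal.subset_union_prime p p (fun s hs _ _ => by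
      rcases Finset.mem_insert.1 hs with rfl | hs
      · exact hp
      · exact (hSfin.mem_toFinset.1 hs).1.1)).1 h
    rcases Finset.mem_insert.1 hs with rfl | hs
    · exact hfp (hms hf)
    · exact hnot s (hSfin.mem_toFinset.1 hs) hms
  obtain ⟨b, hbm, hb⟩ := Set.not_subset.1 hsel
  simp only [Set.mem_iUnion, not_exists] at hb
  have hbp : b ∉ p := hb p (Finset.mem_coe.2 (Finset.mem_insert_self _ _))
  obtain ⟨q₂, hq₂, hq₂m⟩ := Ideal.exists_minimalPrimes_le
    (show p ⊔ Ideal.span {b} ≤ m from sup_le hpm ((Ideal.span_singleton_le_iff_mem _).2 hbm))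
  haveI : q₂.IsPrime := hq₂.1.1
  have hpq₂ : p ≤ q₂ := le_sup_left.trans hq₂.1.2
  have hbq₂ : b ∈ q₂ := hq₂.1.2 (Ideal.mem_sup_right (Ideal.mem_span_singleton_self b))
  have hfq₂ : f ∈ q₂ := by
    by_contra h
    exact hmax q₂ ⟨inferInstance, hq₂m, h⟩ (lt_of_le_of_ne hpq₂ fun e => hbp (e ▸ hbq₂))
  obtain ⟨s, hs, hsq⟩ := Ideal.exists_minimalPrimes_le
    (show I ≤ q₂ from sup_le hpq₂ ((Ideal.span_singleton_le_iff_mem _).2 hfq₂))
  haveI : s.IsPrime := hs.1.1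
  have hps : p ≤ s := le_sup_left.trans hs.1.2
  have hfs : f ∈ s := hs.1.2 (Ideal.mem_sup_right (Ideal.mem_span_singleton_self f))
  let π := Ideal.Quotient.mk p
  haveI := hp
  have hcm : ∀ r : Ideal A, p ≤ r → (r.map π).comap π = r := fun r hr => by
    rw [Ideal.comap_map_of_surjective _ Ideal.Quotient.mk_surjective, ← RingHom.ker_eq_comap_bot,
      Ideal.mk_ker, sup_eq_left.2 hr]
  haveI hP : (q₂.map π).IsPrime := Ideal.isPrime_map_quotientMk_of_isPrime hpq₂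
  haveI hS : (s.map π).IsPrime := Ideal.isPrime_map_quotientMk_of_isPrime hps
  have hmin : q₂.map π ∈ (Ideal.span {π b}).minimalPrimes := by
    refine ⟨⟨hP, (Ideal.span_singleton_le_iff_mem _).2 (Ideal.mem_map_of_mem π hbq₂)⟩, fun Q ⟨hQ, hQb⟩ hQP => ?_⟩
    have h1 : p ⊔ Ideal.span {b} ≤ Q.comap π := by
      refine sup_le (fun a ha => ?_) ((Ideal.span_singleton_le_iff_mem _).2 ?_)
      · show π a ∈ Q
        rw [Ideal.Quotient.eq_zero_iff_mem.2 ha]
        exact zero_mem _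
      · exact hQb (Ideal.mem_span_singleton_self _)
    have h2 : Q.comap π ≤ q₂ := (Ideal.comap_mono hQP).trans (hcm q₂ hpq₂).le
    have h3 := hq₂.2 ⟨Ideal.comap_isPrime π Q, h1⟩ h2
    exact (Ideal.map_mono h3).trans (Ideal.map_comap_of_surjective π Ideal.Quotient.mk_surjective Q).le
  have hle := Ideal.height_le_one_of_isPrincipal_of_mem_minimalPrimes (Ideal.span {π b}) (q₂.map π) hmin
  have hlt : s.map π < q₂.map π := by
    refine lt_of_le_of_ne (Ideal.map_mono hsq) fun e => ?_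
    have := congrArg (Ideal.comap π) e
    rw [hcm s hps, hcm q₂ hpq₂] at this
    exact hb s (Finset.mem_coe.2 (Finset.mem_insert_of_mem (hSfin.mem_toFinset.2 hs))) (this ▸ hbq₂)
  have hpos : (1 : ℕ∞) ≤ (s.map π).height := by
    rw [Order.one_le_iff_ne_zero, Ne, Ideal.height_eq_zero_iff_eq_bot]
    exact fun h0 => hfp (Ideal.Quotient.eq_zero_iff_mem.1 (by
      have := Ideal.mem_map_of_mem π hfs
      rw [h0] at this
      exact this))
  have := Ideal.height_strict_mono_of_isPrime_of_isPrime hlt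
  exact absurd (lt_of_le_of_lt hpos this) hle.not_gt

end GrothLib.SecDeg26
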